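import Groth.Agent.CurveDVR.Stalk
import Groth.Agent.S10887
import Groth.Agent.S16049
import Groth.Agent.S2738
import Groth.Agent.EtStruct.Instances
import Mathlib

/-! # Smoothness of a base change of a fibred surface -/

set_option autoImplicit false
set_option linter.style.haveILetI false

universe u

open CategoryTheory CategoryTheory.Limits AlgebraicGeometry TopologicalSpace

namespace Groth.Agent.SmoothBC7

theorem exists_eq_generic {X Y : Scheme.{u}} (f : X ⟶ Y) [IsFinite f] [IsIntegral X] [IsIntegral Y]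
    (hX : topologicalKrullDim X = 1) (hY : topologicalKrullDim Y = 1) : f (genericPoint X) = genericPoint Y := by
  by_contra hne
  obtain ⟨x, hx⟩ : ∃ x : X, x ≠ genericPoint X := by
    by_contra h
    push Not at h
    haveI : Subsingleton X := ⟨fun a b => (h a).trans (h b).symm⟩
    have h0 : topologicalKrullDim X ≤ 0 := by
      rw [show topologicalKrullDim X = Order.krullDim X from Order.krullDim_eq_of_orderIso irreducibleSetEquivPoints]
      exact Order.krullDim_nonpos_of_subsingleton
    rw [hX] at h0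
    exact absurd h0 (by norm_num)
  have hinj : f x ≠ f (genericPoint X) := fun h => by
    have := (f.isDiscrete_preimage_singleton (f x)).to_subtype
    have hsp : (⟨genericPoint X, h.symm⟩ : f ⁻¹' {f x}) ⤳ ⟨x, rfl⟩ :=
      (subtype_specializes_iff _ _).2 (genericPoint_specializes x)
    exact hx (congrArg Subtype.val (specializes_iff_eq.1 hsp)).symm
  have h1 : f x < f (genericPoint X) := lt_of_le_not_ge
    (show f x ≤ f (genericPoint X) from (genericPoint_specializes x).map f.continuous)
    fun h => hinj ((show f x ⤳ f (genericPoint X) from h).antisymm ((genericPoint_specializes x).map f.continuous)).eq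
  have h2 : f (genericPoint X) < genericPoint Y := lt_of_le_not_ge
    (show f (genericPoint X) ≤ genericPoint Y from genericPoint_specializes _)
    fun h => hne ((show f (genericPoint X) ⤳ genericPoint Y from h).antisymm (genericPoint_specializes _)).eq
  have h3 : ((2 : ℕ) : WithBot ℕ∞) ≤ topologicalKrullDim Y := by
    rw [show topologicalKrullDim Y = Order.krullDim Y from Order.krullDim_eq_of_orderIso irreducibleSetEquivPoints]
    exact Order.LTSeries.length_le_krullDim (⟨2, ![f x, f (genericPoint X), genericPoint Y], fun i => by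
      fin_cases i
      · exact h1
      · exact h2⟩ : LTSeries Y)
  rw [hY] at h3
  exact absurd h3 (by norm_num)

theorem flat_of_generic {k : Type u} [Field k] {X C : Scheme.{u}} (s : C ⟶ Spec (CommRingCat.of k)) [IsProper s]
    [Smooth s] [IsIntegral C] [IsIntegral X] (hdim : topologicalKrullDim C = 1) (f : X ⟶ C)
    (hf : genericPoint C ∈ closure (Set.range f)) : Flat f := by
  haveI : IsLocallyNoetherian C := LocallyOfFiniteType.isLocallyNoetherian s
  haveI : CompactSpace C := QuasiCompact.compactSpace_of_compactSpace s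
  haveI : IsNoetherian C := ⟨⟩
  refine (S10887.result (fun y => CurveDVR.isRegularLocalRing_stalk s y) hdim.le f).2 fun Z hZ => ?_
  rw [irreducibleComponents_eq_singleton, Set.mem_singleton_iff] at hZ
  rw [hZ, Set.image_univ, dense_iff_closure_eq, Set.eq_univ_iff_forall]
  exact fun y => (genericPoint_specializes y).mem_closed isClosed_closure hf

theorem smooth_snd {k : Type u} [Field k] {S C C' : Scheme.{u}} (sS : S ⟶ Spec (CommRingCat.of k)) [IsProper sS]
    [Smooth sS] [IsIntegral S] (sC : C ⟶ Spec (CommRingCat.of k)) [IsProper sC] [Smooth sC] [IsIntegral C]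
    (hdimC : topologicalKrullDim C = 1) (sC' : C' ⟶ Spec (CommRingCat.of k)) [IsProper sC'] [Smooth sC'] [IsIntegral C']
    (hdimC' : topologicalKrullDim C' = 1) (f : S ⟶ C) (hf : f ≫ sC = sS) [Surjective f]
    (ψ : C' ⟶ C) (hψk : ψ ≫ sC = sC') [IsFinite ψ]
    (hψ : ∀ c : C', ¬ Smooth (f.fiberToSpecResidueField (ψ.base c)) →
      ∃ U : C'.Opens, c ∈ U ∧ FormallyUnramified (U.ι ≫ ψ)) :
    Smooth (pullback.snd f ψ ≫ sC') := by
  haveI : Flat f := flat_of_generic sC hdimC f (subset_closure (f.surjective _))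
  haveI : Flat ψ := flat_of_generic sC hdimC ψ (subset_closure ⟨_, exists_eq_generic ψ hdimC' hdimC⟩)
  haveI : IsLocallyNoetherian C := LocallyOfFiniteType.isLocallyNoetherian sC
  haveI : LocallyOfFiniteType f := by
    haveI : LocallyOfFiniteType (f ≫ sC) := by rw [hf]; infer_instance
    exact locallyOfFiniteType_of_comp f sC
  have hcomm : pullback.snd f ψ ≫ sC' = pullback.fst f ψ ≫ sS := by rw [← hf, ← hψk, pullback.condition_assoc]
  have key : ∀ p : ↥(pullback f ψ), ∃ W : (pullback f ψ).Opens, p ∈ W ∧ Smooth (W.ι ≫ pullback.snd f ψ ≫ sC') := by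
    intro p
    by_cases h : Smooth (f.fiberToSpecResidueField (ψ.base (pullback.snd f ψ p)))
    · have hsm : Smooth (pullback.snd f ((𝟙 C : C ⟶ C).fiberι (ψ.base (pullback.snd f ψ p)))) := by
        set c := ψ.base (pullback.snd f ψ p)
        let e := (𝟙 C : C ⟶ C).fiberToSpecResidueField c
        haveI : IsIso e := inferInstanceAs (IsIso (pullback.snd (𝟙 C) (C.fromSpecResidueField c)))
        have he : (𝟙 C : C ⟶ C).fiberι c = e ≫ C.fromSpecResidueField c :=
          (Category.comp_id _).symm.trans (Scheme.Hom.fiber_fac (𝟙 C) c)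
        rw [he]
        rw [← (Iso.inv_comp_eq _).2 (pullbackLeftPullbackSndIso_hom_snd f (C.fromSpecResidueField c) e).symm]
        haveI : Smooth (pullback.snd f (C.fromSpecResidueField c)) := h
        infer_instance
      obtain ⟨U, hU, hUs⟩ := S16049.result (𝟙 C) f f (Category.comp_id f) _ hsm
      have hpU : pullback.fst f ψ p ∈ U := hU _ (by
        rw [← Scheme.Hom.comp_apply, pullback.condition, Scheme.Hom.comp_apply])
      refine ⟨pullback.fst f ψ ⁻¹ᵁ U, hpU, ?_⟩
      haveI : Smooth (U.ι ≫ f) := hUs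
      have h1 : IsPullback (pullback.fst f ψ ∣_ U) ((pullback.fst f ψ ⁻¹ᵁ U).ι ≫ pullback.snd f ψ) (U.ι ≫ f) ψ :=
        (isPullback_morphismRestrict (pullback.fst f ψ) U).paste_vert (IsPullback.of_hasPullback f ψ)
      haveI : Smooth ((pullback.fst f ψ ⁻¹ᵁ U).ι ≫ pullback.snd f ψ) :=
        MorphismProperty.of_isPullback (P := @Smooth) h1 inferInstance
      rw [← Category.assoc]
      infer_instance
    · obtain ⟨U₀, hcU₀, hU₀⟩ := hψ _ h
      have hflat : (((𝟙 C' : C' ⟶ C') ≫ ψ).stalkMap (pullback.snd f ψ p)).hom.Flat := by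
        rw [Category.id_comp]
        exact Flat.stalkMap ψ _
      haveI : LocallyOfFinitePresentation ψ := inferInstance
      obtain ⟨⟨V, hcV, hV⟩, -⟩ := S2738.result ψ (𝟙 C') (pullback.snd f ψ p) ⟨U₀, hcU₀, hU₀⟩ hflat
      refine ⟨pullback.snd f ψ ⁻¹ᵁ V, hcV, ?_⟩
      haveI : Etale (V.ι ≫ ψ) := hV
      have h1 : IsPullback (pullback.snd f ψ ∣_ V) ((pullback.snd f ψ ⁻¹ᵁ V).ι ≫ pullback.fst f ψ) (V.ι ≫ ψ) f :=
        (isPullback_morphismRestrict (pullback.snd f ψ) V).paste_vert (IsPullback.of_hasPullback f ψ).flip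
      haveI : Etale ((pullback.snd f ψ ⁻¹ᵁ V).ι ≫ pullback.fst f ψ) :=
        MorphismProperty.of_isPullback (P := @Etale) h1 inferInstance
      rw [hcomm, ← Category.assoc]
      infer_instance
  choose W hp hW using key
  haveI : IsZariskiLocalAtSource @Smooth.{u} := Groth.Agent.EtStruct.smooth_isZariskiLocalAtSource
  rw [IsZariskiLocalAtSource.iff_of_openCover (P := @Smooth)
    ((pullback f ψ).openCoverOfIsOpenCover W (Opens.coe_eq_univ.1 (Set.eq_univ_of_forall fun p =>
      Opens.mem_iSup.2 ⟨p, hp p⟩)))]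
  exact fun p => hW p

end Groth.Agent.SmoothBC7
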